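import Cfsg.Prelude.Def_SporadicB
import Cfsg.Agent.CharB.SpinCover
import Mathlib.GroupTheory.Transfer
import Mathlib.GroupTheory.Complement
import Mathlib.GroupTheory.SpecificGroups.Alternating
import Mathlib.GroupTheory.SpecificGroups.Alternating.Simple

/-!
Involutions in double covers of alternating groups of small degree.
-/

set_option autoImplicit false

open Subgroup

namespace Cfsg.Agent.DoubleCover62

section split

variable {H K : Type*} [Group H] [Finite H] [Group K]

/-- A subgroup meeting the kernel trivially whose image has odd index gives a complement. -/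
theorem exists_complement (q : H →* K) (hq : Function.Surjective q)
    (hker : q.ker = center H) (hZ : Nat.card (center H) = 2)
    (C : Subgroup H) (hC : ∀ x ∈ C, q x = 1 → x = 1) (hodd : Odd (C.map q).index) :
    ∃ L : Subgroup H, (center H).IsComplement' L := by
  have hqZ : ∀ z ∈ center H, q z = 1 := fun z hz => MonoidHom.mem_ker.1 (by rw [hker]; exact hz)
  set P := (C.map q).comap q with hP
  let ψ : (↥C × ↥(center H)) →* ↥P :=
    MonoidHom.mk' (fun x => ⟨(x.1 : H) * x.2, by
      rw [hP, mem_comap, map_mul, hqZ _ x.2.2, mul_one]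
      exact mem_map_of_mem q x.1.2⟩)
      (fun x y => Subtype.ext (by
        show ((x.1 : H) * y.1) * ((x.2 : H) * y.2) = ((x.1 : H) * x.2) * ((y.1 : H) * y.2)
        rw [mul_assoc (x.1 : H) x.2, ← mul_assoc (x.2 : H) y.1,
          ← mem_center_iff.1 x.2.2 (y.1 : H)]
        group))
  have hψ : Function.Bijective ψ := by
    refine ⟨(injective_iff_map_eq_one ψ).2 fun x hx => ?_, fun x => ?_⟩
    · have hx' : (x.1 : H) * x.2 = 1 := congrArg Subtype.val hx
      have h1 : q x.1 = 1 := by
        have := congrArg q hx'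
        rwa [map_mul, map_one, hqZ _ x.2.2,
          mul_one] at this
      have h2 := hC _ x.1.2 h1
      rw [h2, one_mul] at hx'
      exact Prod.ext (Subtype.ext h2) (Subtype.ext hx')
    · obtain ⟨c, hc, hcx⟩ := mem_map.1 (mem_comap.1 x.2)
      refine ⟨(⟨c, hc⟩, ⟨c⁻¹ * x, hker ▸ MonoidHom.mem_ker.2 ?_⟩), Subtype.ext ?_⟩
      · rw [map_mul, map_inv, hcx, inv_mul_cancel]
      · show c * (c⁻¹ * (x : H)) = x
        group
  let e := MulEquiv.ofBijective ψ hψ
  let φ : ↥P →* ↥(center H) := (MonoidHom.snd _ _).comp e.symm.toMonoidHom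
  have hidx : Odd P.index := by
    rwa [hP, index_comap_of_surjective _ hq]
  letI : CommGroup ↥(center H) :=
    { (center H).toGroup with mul_comm := fun a b => Subtype.ext (mem_center_iff.1 b.2 (a : H)) }
  let T : H →* ↥(center H) := MonoidHom.transfer φ
  have hT : ∀ z : ↥(center H), T (z : H) = z := by
    intro z
    have key : ∀ (k : ℕ) (g : H), g⁻¹ * (z : H) ^ k * g ∈ P →
        g⁻¹ * (z : H) ^ k * g = (z : H) ^ k := fun k g _ => by
      rw [mul_assoc, ← mem_center_iff.1 (pow_mem z.2 k) g, inv_mul_cancel_left]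
    show MonoidHom.transfer φ (z : H) = z
    rw [MonoidHom.transfer_eq_pow φ (z : H) key]
    obtain ⟨j, hj⟩ := hidx
    have hz2 : z ^ 2 = 1 := by rw [← hZ]; exact pow_card_eq_one'
    have hzi : z ^ P.index = z := by rw [hj, pow_succ, pow_mul, hz2, one_pow, one_mul]
    show (e.symm _).2 = z
    have he : e (1, z) = ⟨(z : H) ^ P.index, MonoidHom.transfer_eq_pow_aux (z : H) key⟩ :=
      Subtype.ext (by
        show (1 : H) * (z : H) = (z : H) ^ P.index
        rw [one_mul, ← Subgroup.coe_pow, hzi])
    rw [← he, MulEquiv.symm_apply_apply]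
  have hsurj : Function.Surjective T := fun z => ⟨z, hT z⟩
  refine ⟨T.ker, isComplement'_of_card_mul_and_disjoint ?_ ?_⟩
  · rw [← T.ker.card_mul_index, index_ker, MonoidHom.range_eq_top.2 hsurj, card_top, mul_comm]
  · rw [disjoint_def]
    intro x hx hx'
    have h := hT ⟨x, hx⟩
    rw [MonoidHom.mem_ker.1 hx'] at h
    exact (congrArg Subtype.val h).symm

/-- A dihedral subgroup of odd index all whose involutions lift to involutions splits off. -/
theorem exists_complement_of_dihedral (q : H →* K) (hq : Function.Surjective q)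
    (hker : q.ker = center H) (hZ : Nat.card (center H) = 2)
    (hinv : ∀ h : H, q h ≠ 1 → q h * q h = 1 → h * h = 1)
    (a b : K) (m : ℕ) (ha : orderOf a = m) (hm : m = 2 ∨ m = 4) (hb : b * b = 1)
    (hba : b ∉ zpowers a) (hab : a * b * (a * b) = 1)
    (hidx : ∀ D : Subgroup K, Nat.card D = 2 * m → Odd D.index) :
    ∃ L : Subgroup H, (center H).IsComplement' L := by
  obtain ⟨x, rfl⟩ := hq a
  obtain ⟨y, rfl⟩ := hq b
  have hxm : x ^ m = 1 := by
    rcases hm with rfl | rfl
    · rw [pow_two]
      refine hinv x (fun h => by simp [h] at ha) ?_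
      rw [← pow_two, ← ha, pow_orderOf_eq_one]
    · rw [show 4 = 2 + 2 from rfl, pow_add]
      refine hinv (x ^ 2) (fun h => ?_) ?_
      · rw [map_pow] at h
        have := orderOf_dvd_of_pow_eq_one h
        rw [ha] at this
        norm_num at this
      · rw [map_pow, ← pow_add, show 2 + 2 = 4 from rfl, ← ha, pow_orderOf_eq_one]
  have hox : orderOf x = m :=
    Nat.dvd_antisymm (orderOf_dvd_of_pow_eq_one hxm) (ha ▸ orderOf_map_dvd q x)
  have hy : y * y = 1 := hinv y (fun h => hba (h ▸ one_mem _)) hb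
  have hxy : x * y * (x * y) = 1 := by
    refine hinv _ (fun h => hba ?_) (by rw [map_mul]; exact hab)
    rw [map_mul] at h
    rw [eq_inv_of_mul_eq_one_right h]
    exact inv_mem (mem_zpowers _)
  have hyi : y⁻¹ = y := inv_eq_of_mul_eq_one_left hy
  have hconj : ∀ i : ℤ, y * x ^ i = x ^ (-i) * y := by
    intro i
    have h1 : y * x * y⁻¹ = x⁻¹ := by
      rw [hyi]
      calc y * x * y = x⁻¹ * (x * y * (x * y)) := by group
        _ = x⁻¹ := by rw [hxy, mul_one]
    have h2 := conj_zpow (a := y) (b := x) (i := i)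
    rw [h1, inv_zpow, ← zpow_neg] at h2
    rw [h2, inv_mul_cancel_right]
  let C : Subgroup H :=
    { carrier := {u | ∃ i : ℤ, u = x ^ i ∨ u = x ^ i * y}
      one_mem' := ⟨0, Or.inl (zpow_zero x).symm⟩
      mul_mem' := by
        rintro u v ⟨i, rfl | rfl⟩ ⟨j, rfl | rfl⟩
        · exact ⟨i + j, Or.inl (zpow_add x i j).symm⟩
        · exact ⟨i + j, Or.inr (by rw [zpow_add, mul_assoc])⟩
        · exact ⟨i - j, Or.inr (by
            rw [mul_assoc, hconj, ← mul_assoc, ← zpow_add, sub_eq_add_neg])⟩
        · exact ⟨i - j, Or.inl (by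
            rw [mul_assoc, ← mul_assoc y, hconj, mul_assoc, hy, mul_one, ← zpow_add,
              sub_eq_add_neg])⟩
      inv_mem' := by
        rintro u ⟨i, rfl | rfl⟩
        · exact ⟨-i, Or.inl (zpow_neg x i).symm⟩
        · exact ⟨i, Or.inr (by rw [mul_inv_rev, hyi, ← zpow_neg, hconj, neg_neg])⟩ }
  have hCinj : ∀ u ∈ C, q u = 1 → u = 1 := by
    rintro u ⟨i, rfl | rfl⟩ h
    · rw [map_zpow, ← orderOf_dvd_iff_zpow_eq_one, ha] at h
      rwa [← orderOf_dvd_iff_zpow_eq_one, hox]
    · exfalso
      rw [map_mul, map_zpow] at h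
      exact hba (eq_inv_of_mul_eq_one_right h ▸ inv_mem (zpow_mem_zpowers _ i))
  let f : ↥(zpowers x) × Bool → ↥(C.map q) := fun p =>
    ⟨q ((p.1 : H) * if p.2 then y else 1), mem_map_of_mem q (by
      obtain ⟨i, hi⟩ := mem_zpowers_iff.1 p.1.2
      rcases p with ⟨z, _ | _⟩
      · exact ⟨i, Or.inl (by simp [hi])⟩
      · exact ⟨i, Or.inr (by simp [hi])⟩)⟩
  have hinjp : ∀ z w : ↥(zpowers x), q (z : H) = q (w : H) → z = w := by
    intro z w h
    obtain ⟨i, hi⟩ := mem_zpowers_iff.1 z.2
    obtain ⟨j, hj⟩ := mem_zpowers_iff.1 w.2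
    have h1 : (z : H) * (w : H)⁻¹ = 1 := by
      refine hCinj _ ⟨i - j, Or.inl ?_⟩ (by rw [map_mul, map_inv, h, mul_inv_cancel])
      rw [← hi, ← hj, zpow_sub]
    exact Subtype.ext (mul_inv_eq_one.1 h1)
  have hy1 : ∀ z w : ↥(zpowers x), q (z : H) * q y ≠ q (w : H) := by
    intro z w h
    refine hba ?_
    rw [eq_inv_mul_of_mul_eq h]
    have hm' : ∀ z : ↥(zpowers x), q (z : H) ∈ zpowers (q x) := fun z => by
      obtain ⟨i, hi⟩ := mem_zpowers_iff.1 z.2
      rw [← hi, map_zpow]
      exact zpow_mem_zpowers _ i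
    exact mul_mem (inv_mem (hm' z)) (hm' w)
  have hf : Function.Bijective f := by
    refine ⟨?_, ?_⟩
    · rintro ⟨z, _ | _⟩ ⟨w, _ | _⟩ h <;>
        have h' := congrArg Subtype.val h <;> simp [f] at h'
      · rw [hinjp z w h']
      · exact absurd h'.symm (hy1 w z)
      · exact absurd h' (hy1 z w)
      · rw [hinjp z w h']
    · rintro ⟨v, hv⟩
      obtain ⟨u, ⟨i, rfl | rfl⟩, rfl⟩ := mem_map.1 hv
      · exact ⟨(⟨x ^ i, zpow_mem_zpowers x i⟩, false), Subtype.ext (by simp [f])⟩
      · exact ⟨(⟨x ^ i, zpow_mem_zpowers x i⟩, true), Subtype.ext (by simp [f])⟩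
  refine exists_complement q hq hker hZ C hCinj (hidx _ ?_)
  rw [← Nat.card_congr (Equiv.ofBijective f hf), Nat.card_prod, Nat.card_zpowers, hox,
    Nat.card_eq_fintype_card (α := Bool), Fintype.card_bool, mul_comm]

end split

open Equiv Equiv.Perm

/-- An involution of a small alternating group is a product of two transpositions. -/
theorem cycleType_eq {n : ℕ} (hn : n ≤ 7) {σ : Perm (Fin n)} (hσ : σ * σ = 1) (h1 : σ ≠ 1)
    (hA : σ ∈ alternatingGroup (Fin n)) : σ.cycleType = {2, 2} := by
  have ho : orderOf σ = 2 := orderOf_eq_prime (by rw [pow_two]; exact hσ) h1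
  obtain ⟨k, hk⟩ := cycleType_prime_order (by rw [ho]; exact Nat.prime_two)
  rw [ho] at hk
  have hsum : σ.cycleType.sum ≤ n := by
    rw [sum_cycleType]
    exact le_trans (Finset.card_le_univ _) (by simp)
  have hs := Equiv.Perm.mem_alternatingGroup.1 hA
  rw [sign_of_cycleType, hk] at hs
  rw [hk, Multiset.sum_replicate, smul_eq_mul] at hsum
  have hk3 : k < 3 := by omega
  rw [hk]
  interval_cases k
  · exact absurd hs (by decide)
  · rfl
  · exact absurd hs (by decide)

/-- Involutions of a small alternating group are conjugate. -/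
theorem isConj_involution {n : ℕ} (hn : n ≤ 7) (s t : alternatingGroup (Fin n))
    (hs : s * s = 1) (hs1 : s ≠ 1) (ht : t * t = 1) (ht1 : t ≠ 1) : IsConj s t := by
  have cs := cycleType_eq hn (congrArg Subtype.val hs) (fun h => hs1 (Subtype.ext h)) s.2
  have ct := cycleType_eq hn (congrArg Subtype.val ht) (fun h => ht1 (Subtype.ext h)) t.2
  obtain ⟨g, hg⟩ := isConj_iff.1 (isConj_iff_cycleType_eq.2 (cs.trans ct.symm))
  obtain ⟨a, ha⟩ : ∃ a, (s : Perm (Fin n)) a ≠ a := by
    by_contra h
    push Not at h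
    exact hs1 (Subtype.ext (Equiv.ext fun a => by simp [h a]))
  set τ := swap a ((s : Perm (Fin n)) a) with hτ
  have hcomm : (s : Perm (Fin n)) * τ * (s : Perm (Fin n))⁻¹ = τ := by
    have hss : (s : Perm (Fin n)) ((s : Perm (Fin n)) a) = a := by
      have := congrArg (fun u : alternatingGroup (Fin n) => (u : Perm (Fin n)) a) hs
      simpa using this
    rw [hτ, ← swap_apply_apply, hss, swap_comm]
  rcases Int.units_eq_one_or (sign g) with h | h
  · exact isConj_iff.2 ⟨⟨g, Equiv.Perm.mem_alternatingGroup.2 h⟩, Subtype.ext hg⟩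
  · refine isConj_iff.2 ⟨⟨g * τ, Equiv.Perm.mem_alternatingGroup.2 ?_⟩, Subtype.ext ?_⟩
    · rw [map_mul, h, hτ, sign_swap (Ne.symm ha)]
      rfl
    · show g * τ * (s : Perm (Fin n)) * (g * τ)⁻¹ = (t : Perm (Fin n))
      have h2 : τ * (s : Perm (Fin n)) * τ⁻¹ = (s : Perm (Fin n)) := by
        have h3 := mul_inv_eq_iff_eq_mul.1 hcomm
        rw [mul_inv_eq_iff_eq_mul, h3]
      calc g * τ * (s : Perm (Fin n)) * (g * τ)⁻¹ = g * (τ * (s : Perm (Fin n)) * τ⁻¹) * g⁻¹ := by
            group
        _ = (t : Perm (Fin n)) := by rw [h2, hg]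

/-- The elements of a dihedral Sylow subgroup of a small alternating group. -/
theorem exists_dihedral {n : ℕ} (h4 : 4 ≤ n) (h7 : n ≤ 7) :
    ∃ (a b : alternatingGroup (Fin n)) (m : ℕ), orderOf a = m ∧ (m = 2 ∨ m = 4) ∧ b * b = 1 ∧
      b ∉ zpowers a ∧ a * b * (a * b) = 1 ∧
      ∀ D : Subgroup (alternatingGroup (Fin n)), Nat.card D = 2 * m → Odd D.index := by
  have hcard : ∀ (n : ℕ), 2 ≤ n → 2 * Nat.card (alternatingGroup (Fin n)) = n.factorial := by
    intro n hn
    haveI : Nontrivial (Fin n) := Fin.nontrivial_iff_two_le.2 hn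
    rw [Nat.card_eq_fintype_card, two_mul_card_alternatingGroup, Fintype.card_perm,
      Fintype.card_fin]
  have main : ∀ (n : ℕ) (A B : Perm (Fin n)) (m i : ℕ), 2 ≤ n → sign A = 1 → sign B = 1 →
      (m = 2 ∨ m = 4) → A ^ m = 1 → A ^ (m / 2) ≠ 1 → B * B = 1 →
      (∀ j : Fin m, A ^ (j : ℕ) ≠ B) → A * B * (A * B) = 1 →
      n.factorial = 2 * (2 * m) * i → Odd i →
      ∃ (a b : alternatingGroup (Fin n)) (m : ℕ), orderOf a = m ∧ (m = 2 ∨ m = 4) ∧ b * b = 1 ∧
      b ∉ zpowers a ∧ a * b * (a * b) = 1 ∧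
      ∀ D : Subgroup (alternatingGroup (Fin n)), Nat.card D = 2 * m → Odd D.index := by
    intro n A B m i hn hA hB hm hAm hA2 hB2 hj hab hfac hodd
    let a : alternatingGroup (Fin n) := ⟨A, Equiv.Perm.mem_alternatingGroup.2 hA⟩
    have hoa : orderOf a = m := by
      rw [← orderOf_injective _ (subtype_injective _) a]
      show orderOf A = m
      rcases hm with rfl | rfl
      · exact orderOf_eq_prime hAm (by simpa using hA2)
      · exact orderOf_eq_prime_pow (p := 2) (n := 1) (by simpa using hA2) hAm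
    refine ⟨a, ⟨B, Equiv.Perm.mem_alternatingGroup.2 hB⟩, m, hoa, hm, Subtype.ext hB2,
      fun h => ?_, Subtype.ext hab, fun D hD => ?_⟩
    · rw [mem_zpowers_iff_mem_range_orderOf, Finset.mem_image] at h
      obtain ⟨j, hjm, hjB⟩ := h
      rw [Finset.mem_range, hoa] at hjm
      exact hj ⟨j, hjm⟩ (congrArg Subtype.val hjB)
    · have h1 := hcard n hn
      rw [← D.card_mul_index, hD, hfac] at h1
      have hm0 : 0 < 2 * (2 * m) := by omega
      have h2 : D.index = i := by
        have h3 : 2 * (2 * m) * D.index = 2 * (2 * m) * i := by rw [← h1, mul_assoc]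
        exact Nat.eq_of_mul_eq_mul_left hm0 h3
      rw [h2]; exact hodd
  interval_cases n
  · exact main 4 (swap 0 1 * swap 2 3) (swap 0 2 * swap 1 3) 2 3 (by norm_num) (by decide)
      (by decide) (Or.inl rfl) (by decide) (by decide) (by decide) (by decide) (by decide) rfl
      (by decide)
  · exact main 5 (swap 0 1 * swap 2 3) (swap 0 2 * swap 1 3) 2 15 (by norm_num) (by decide)
      (by decide) (Or.inl rfl) (by decide) (by decide) (by decide) (by decide) (by decide) rfl
      (by decide)
  · exact main 6 (swap 0 1 * swap 1 2 * swap 2 3 * swap 4 5) (swap 0 2 * swap 4 5) 4 45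
      (by norm_num) (by decide)
      (by decide) (Or.inr rfl) (by decide) (by decide) (by decide) (by decide) (by decide) rfl
      (by decide)
  · exact main 7 (swap 0 1 * swap 1 2 * swap 2 3 * swap 4 5) (swap 0 2 * swap 4 5) 4 315
      (by norm_num) (by decide)
      (by decide) (Or.inr rfl) (by decide) (by decide) (by decide) (by decide) (by decide) rfl
      (by decide)

/-- A non-split double cover of a small alternating group has only one involution. -/
theorem eq_of_involutions {n : ℕ} (hn : n ≤ 7) {H : Type*} [Group H] [Finite H]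
    (h : Cfsg.IsNonsplitDoubleCover H (alternatingGroup (Fin n))) (x y : H)
    (hx : orderOf x = 2) (hy : orderOf y = 2) : x = y := by
  obtain ⟨hZ, ⟨e⟩, hns⟩ := h
  set q : H →* alternatingGroup (Fin n) := e.toMonoidHom.comp (QuotientGroup.mk' (center H))
  have hq : Function.Surjective q := e.surjective.comp (QuotientGroup.mk'_surjective _)
  have hker : q.ker = center H := by
    refine Subgroup.ext fun g => ?_
    simp [q]
  have key : ∀ u : H, orderOf u = 2 → u ∈ center H := by
    intro u hu
    by_contra huZ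
    have hu2 : u * u = 1 := by rw [← pow_two, ← hu, pow_orderOf_eq_one]
    have hs1 : q u ≠ 1 := fun h => huZ (hker ▸ MonoidHom.mem_ker.2 h)
    have hs : q u * q u = 1 := by rw [← map_mul, hu2, map_one]
    have hinv : ∀ v : H, q v ≠ 1 → q v * q v = 1 → v * v = 1 := by
      intro v hv1 hv
      obtain ⟨g, hg⟩ := isConj_iff.1 (isConj_involution hn _ _ hs hs1 hv hv1)
      obtain ⟨w, rfl⟩ := hq g
      set z := (w * u * w⁻¹)⁻¹ * v with hz
      have hzc : z ∈ center H := by
        rw [← hker, MonoidHom.mem_ker, hz, map_mul, map_inv, map_mul, map_mul, map_inv, hg,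
          inv_mul_cancel]
      have hz2 : z * z = 1 := by
        have : (⟨z, hzc⟩ : center H) ^ 2 = 1 := by rw [← hZ]; exact pow_card_eq_one'
        rw [← pow_two]
        exact congrArg Subtype.val this
      have hv' : v = w * u * w⁻¹ * z := by rw [hz, mul_inv_cancel_left]
      have hcc : w * u * w⁻¹ * (w * u * w⁻¹) = 1 := by
        calc w * u * w⁻¹ * (w * u * w⁻¹) = w * (u * u) * w⁻¹ := by group
          _ = 1 := by rw [hu2, mul_one, mul_inv_cancel]
      calc v * v = w * u * w⁻¹ * (z * (w * u * w⁻¹)) * z := by rw [hv']; simp only [mul_assoc]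
        _ = w * u * w⁻¹ * (w * u * w⁻¹) * (z * z) := by
          rw [← mem_center_iff.1 hzc (w * u * w⁻¹)]; simp only [mul_assoc]
        _ = 1 := by rw [hcc, hz2, one_mul]
    rcases le_or_gt 4 n with h4 | h4
    · obtain ⟨a, b, m, ha, hm, hb, hba, hab, hidx⟩ := exists_dihedral h4 hn
      obtain ⟨L, hL⟩ := exists_complement_of_dihedral q hq hker hZ hinv a b m ha hm hb hba hab hidx
      exact hns L hL
    · obtain ⟨L, hL⟩ := exists_complement q hq hker hZ ⊥ (fun v hv _ => mem_bot.1 hv) (by
        rw [Subgroup.map_bot, index_bot, Nat.card_eq_fintype_card]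
        interval_cases n <;> decide)
      exact hns L hL
  obtain ⟨x0, hx0⟩ := (Nat.card_eq_two_iff' (1 : center H)).1 hZ
  have hval : ∀ u : H, orderOf u = 2 → u = (x0 : H) := fun u hu =>
    congrArg Subtype.val (hx0.2 ⟨u, key u hu⟩ (fun h => by
      have : u = 1 := congrArg Subtype.val h
      simp [this] at hu))
  rw [hval x hx, hval y hy]

open CharB.Spin in
theorem refl_anticomm {n : ℕ} {a b c d : Fin n} (hcd : c ≠ d) (hac : a ≠ c) (had : a ≠ d)
    (hbc : b ≠ c) (hbd : b ≠ d) : refl c d * refl a b = -(refl a b * refl c d) := by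
  have h2 := refl_opL hcd
  have ha : Equiv.swap c d a = a := Equiv.swap_apply_of_ne_of_ne hac had
  have hb : Equiv.swap c d b = b := Equiv.swap_apply_of_ne_of_ne hbc hbd
  rw [refl.eq_1 a b, mul_smul_comm, smul_mul_assoc]
  refine Eq.trans ?_ (smul_neg _ _)
  rw [mul_sub, sub_mul, h2, h2, ha, hb]
  congr 1
  abel

/-- Four mutually anticommuting involutions. -/
theorem anticomm_four {R : Type*} [Ring R] {A B C D : R} (hA : A * A = 1) (hB : B * B = 1)
    (hC : C * C = 1) (hD : D * D = 1) (hBA : B * A = -(A * B)) (hCA : C * A = -(A * C))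
    (hDA : D * A = -(A * D)) (hCB : C * B = -(B * C)) (hDB : D * B = -(B * D))
    (hDC : D * C = -(C * D)) : A * B * C * D * (A * B * C * D) = 1 := by
  have h1 : B * C * D * A = -(A * (B * C * D)) := by
    rw [mul_assoc (B * C), hDA, mul_neg, ← mul_assoc, mul_assoc B C A, hCA, mul_neg, ← mul_assoc,
      hBA]
    noncomm_ring
  have h2 : C * D * B = B * (C * D) := by
    rw [mul_assoc, hDB, mul_neg, ← mul_assoc, hCB]
    noncomm_ring
  have h3 : C * D * (C * D) = -1 := by
    calc C * D * (C * D) = C * (D * C) * D := by noncomm_ring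
      _ = -(C * C * (D * D)) := by rw [hDC]; noncomm_ring
      _ = -1 := by rw [hC, hD, one_mul]
  calc A * B * C * D * (A * B * C * D) = A * (B * C * D * A) * (B * C * D) := by noncomm_ring
    _ = -(A * A * (B * C * D * (B * C * D))) := by rw [h1]; noncomm_ring
    _ = -(B * (C * D * B) * (C * D)) := by rw [hA]; noncomm_ring
    _ = -(B * B * (C * D * (C * D))) := by rw [h2]; noncomm_ring
    _ = 1 := by rw [hB, h3]; simp

open CharB.Spin in
/-- The double cover of the alternating group of degree 8 has two involutions. -/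
theorem exists_two_involutions :
    ∃ (H : Type) (_ : Group H) (_ : Finite H),
      Cfsg.IsNonsplitDoubleCover H (alternatingGroup (Fin 8)) ∧
      ∃ x y : H, x ≠ y ∧ orderOf x = 2 ∧ orderOf y = 2 := by
  have hc : (proj 8).ker = center (cover 8) := by
    refine le_antisymm (by rw [ker_proj, zpowers_le]; exact negOne_mem_center) fun u hu => ?_
    have h1 : proj 8 u ∈ center (alternatingGroup (Fin 8)) := mem_center_iff.2 fun g => by
      obtain ⟨v, rfl⟩ := proj_surjective g
      rw [← map_mul, mem_center_iff.1 hu, map_mul]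
    rw [alternatingGroup.center_eq_bot (by simp)] at h1
    exact MonoidHom.mem_ker.2 (mem_bot.1 h1)
  have hk : Nat.card (proj 8).ker = 2 := by
    rw [ker_proj, Nat.card_zpowers, orderOf_negOne]
  haveI hfin : Finite (cover 8) := by
    haveI : Finite (proj 8).ker := Nat.finite_of_card_ne_zero (by rw [hk]; norm_num)
    haveI : Finite (cover 8 ⧸ (proj 8).ker) :=
      Finite.of_equiv _ (QuotientGroup.quotientKerEquivOfSurjective _ proj_surjective).symm.toEquiv
    exact Finite.of_equiv _ (Subgroup.groupEquivQuotientProdSubgroup (s := (proj 8).ker)).symm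
  refine ⟨cover 8, inferInstance, hfin, ⟨hc ▸ hk,
    ⟨(QuotientGroup.quotientMulEquivOfEq hc.symm).trans
      (QuotientGroup.quotientKerEquivOfSurjective _ proj_surjective)⟩, fun L hL => ?_⟩, ?_⟩
  · have hidx : L.index = 2 := by rw [hL.index_eq_card, ← hc, hk]
    have hcomm : commutator (cover 8) ≤ L := by
      rw [commutator_def, commutator_le]
      intro a _ b _
      simp only [commutatorElement_def, mul_mem_iff_of_index_two hidx, inv_mem_iff]
      tauto
    have h1 := disjoint_def.1 hL.disjoint negOne_mem_center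
      (hcomm (negOne_mem_commutator (by norm_num)))
    have h2 := orderOf_negOne (n := 8)
    rw [h1, orderOf_one] at h2
    norm_num at h2
  · let σ : Equiv.Perm (Fin 8) := swap 0 1 * swap 2 3 * swap 4 5 * swap 6 7
    set A := refl (0 : Fin 8) 1 * refl 2 3 * refl 4 5 * refl 6 7 with hA
    have hsq : A * A = 1 := anticomm_four (refl_sq (by decide)) (refl_sq (by decide))
      (refl_sq (by decide)) (refl_sq (by decide))
      (refl_anticomm (by decide) (by decide) (by decide) (by decide) (by decide))
      (refl_anticomm (by decide) (by decide) (by decide) (by decide) (by decide))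
      (refl_anticomm (by decide) (by decide) (by decide) (by decide) (by decide))
      (refl_anticomm (by decide) (by decide) (by decide) (by decide) (by decide))
      (refl_anticomm (by decide) (by decide) (by decide) (by decide) (by decide))
      (refl_anticomm (by decide) (by decide) (by decide) (by decide) (by decide))
    have hl : IsLift A σ 1 := by
      have := (((isLift_refl (show (0 : Fin 8) ≠ 1 by decide)).mul
        (isLift_refl (show (2 : Fin 8) ≠ 3 by decide))).mul
        (isLift_refl (show (4 : Fin 8) ≠ 5 by decide))).mul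
        (isLift_refl (show (6 : Fin 8) ≠ 7 by decide))
      simpa [hA, σ] using this
    have hσA : σ ∈ alternatingGroup (Fin 8) := Equiv.Perm.mem_alternatingGroup.2 (by decide)
    let u : cover 8 := ⟨⟨A, A, hsq, hsq⟩, σ, hσA, hl⟩
    have hu : proj 8 u = ⟨σ, hσA⟩ := Subtype.ext
      (isLift_unique (Units.mul_inv _) one_ne_zero (isLift_proj u) hl)
    have hne : ∀ v : cover 8, proj 8 v = proj 8 u → v ≠ 1 := fun v hv h => by
      rw [h, map_one, hu] at hv
      exact (by decide : (1 : Equiv.Perm (Fin 8)) ≠ swap 0 1 * swap 2 3 * swap 4 5 * swap 6 7)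
        (congrArg Subtype.val hv)
    have hu2 : u ^ 2 = 1 := Subtype.ext (Units.ext (by rw [pow_two]; exact hsq))
    refine ⟨u, negOne 8 * u, fun h => ?_, orderOf_eq_prime hu2 (hne u rfl),
      orderOf_eq_prime ?_ (hne _ (by rw [map_mul, proj_negOne, one_mul]))⟩
    · have h2 := orderOf_negOne (n := 8)
      rw [right_eq_mul.1 h, orderOf_one] at h2
      norm_num at h2
    · rw [Commute.mul_pow (Subgroup.mem_center_iff.1 negOne_mem_center u).symm, hu2, mul_one]
      have h2 := pow_orderOf_eq_one (negOne 8)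
      rwa [orderOf_negOne] at h2

end Cfsg.Agent.DoubleCover62
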